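import Groth.Agent.SubPBV24.Local
import Groth.Agent.H8Lim.RelSpecMap
import Groth.Agent.RelSpecLib.Basic
import Groth.Agent.Et18.Descent

/-!
# The complement of a split sub-bundle is a vector bundle over the complementary projective bundle
-/

set_option autoImplicit false
set_option linter.style.haveILetI false
set_option linter.unusedSectionVars false
set_option backward.isDefEq.respectTransparency false
set_option backward.isDefEq.respectTransparency.types false
set_option maxHeartbeats 2000000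

universe u

open CategoryTheory CategoryTheory.Limits AlgebraicGeometry Opposite TopologicalSpace
open Groth.Agent.Coherent Groth.Agent.PicLib Groth.Agent.AmpleLib Groth.Agent.KRRPBLib

noncomputable section

namespace Groth.Agent.SubPBV24

variable {X : Scheme.{u}}

theorem exists_basis_of_isBasisOn {E : X.Modules} {U V : X.Opens} {n : ℕ} {e : ULift.{u} (Fin n) → Γ(E, U)}
    (he : IsBasisOn E U e) (h : V ≤ U) : Nonempty (Module.Basis (Fin n) Γ(X, V) Γ(E, V)) := by
  classical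
  have hb : Function.Bijective (Fintype.linearCombination Γ(X, V) fun i => resM E h (e i)) := by
    convert he h using 1
    exact funext fun c => Fintype.linearCombination_apply _ _ _
  exact ⟨(Module.Basis.ofEquivFun (LinearEquiv.ofBijective _ hb).symm).reindex Equiv.ulift⟩

variable {P PB PA : Scheme.{u}} {S : ShortComplex X.Modules}
  {π : P ⟶ X} {O1 : P.Modules} {q : (Scheme.Modules.pullback π).obj S.X₂ ⟶ O1}
  {πB : PB ⟶ X} {O1B : PB.Modules} {qB : (Scheme.Modules.pullback πB).obj S.X₃ ⟶ O1B}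
  {c : PB ⟶ P} (hc : c ≫ π = πB) (ec : (Scheme.Modules.pullback c).obj O1 ≅ O1B)
  (hcq : (Scheme.Modules.pullbackCongr hc).inv.app S.X₂ ≫ (Scheme.Modules.pullbackComp c π).inv.app S.X₂ ≫
    (Scheme.Modules.pullback c).map q ≫ ec.hom = (Scheme.Modules.pullback πB).map S.g ≫ qB)

include hc hcq in
/-- The sub-bundle misses the charts of the kernel. -/
theorem not_mem_D (hO1 : PicF.IsInvertible O1) {U : X.Opens} (hU : IsAffineOpen U) (a : Γ(S.X₁, U)) (x : PB) :
    c x ∉ D q (S.f.app U a) := by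
  intro hx
  let tc := (Scheme.Modules.pullbackPushforwardAdjunction πB).homEquiv S.X₂ O1B
    ((Scheme.Modules.pullback πB).map S.g ≫ qB)
  have hcl : RelVALib.Classifies (KRRPBLib.adjunct q) πB tc c hc ec := by
    refine (RelVALib.classifies_iff (φ := KRRPBLib.adjunct q) hc ec _).1 ?_
    rw [KRRPBLib.adjunct, Equiv.symm_apply_apply]
    exact hcq
  have htc : tc = S.g ≫ KRRPBLib.adjunct qB := Adjunction.homEquiv_naturality_left _ _ _
  have h0 : tc.app U (S.f.app U a) = 0 := by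
    rw [htc]
    show (KRRPBLib.adjunct qB).app U (S.g.app U (S.f.app U a)) = 0
    rw [show S.g.app U (S.f.app U a) = 0 from congr($(S.zero).app U a), map_zero]
  have hgen := isGen_map_iso ec (pullSec_gen q hO1 c (S.f.app U a))
  have hv : ec.hom.app (c ⁻¹ᵁ D q (S.f.app U a))
      (resM _ (c.preimage_mono (D_le q _)) (pullSec c (sec q (S.f.app U a)))) = 0 := by
    rw [app_resM]
    refine (congrArg (resM O1B _) (hcl U hU (S.f.app U a))).trans ?_
    exact (congrArg (fun z => resM O1B _ (resM O1B _ z)) h0).trans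
      ((congrArg (resM O1B _) (map_zero (resM O1B (RelVALib.le_of_over hc U)))).trans (map_zero _))
  have h1 : (1 : Γ(PB, c ⁻¹ᵁ D q (S.f.app U a))) = 0 := by
    refine (hgen _ le_rfl).1 ?_
    show _ • resM _ le_rfl _ = _ • resM _ le_rfl _
    rw [resM_self, hv, smul_zero, smul_zero]
  have h2 := congrArg (PB.presheaf.germ (c ⁻¹ᵁ D q (S.f.app U a)) x hx).hom h1
  rw [map_one, map_zero] at h2
  exact one_ne_zero h2

variable {W : P.Opens} {πA : PA ⟶ X} {O1A : PA.Modules} {qA : (Scheme.Modules.pullback πA).obj S.X₁ ⟶ O1A}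

include hc hcq in
theorem exists_iso (hS : S.ShortExact) (hA : FlatMod.IsFinLocFree S.X₁) (hE : FlatMod.IsFinLocFree S.X₂)
    (hB : FlatMod.IsFinLocFree S.X₃) (σ : S.X₂ ⟶ S.X₁) (hσ : S.f ≫ σ = 𝟙 S.X₁)
    (hP : KRR.IsProjBundle π S.X₂ O1 q) (hW : (W : Set P)ᶜ = Set.range c.base)
    (hPA : KRR.IsProjBundle πA S.X₁ O1A qA)
    (β : (W : Scheme.{u}) ⟶ PA) (hβ : β ≫ πA = W.ι ≫ π)
    (eβ : (Scheme.Modules.pullback β).obj O1A ≅ (Scheme.Modules.pullback W.ι).obj O1)
    (hβq : (Scheme.Modules.pullbackCongr hβ).inv.app S.X₁ ≫ (Scheme.Modules.pullbackComp β πA).inv.app S.X₁ ≫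
      (Scheme.Modules.pullback β).map qA ≫ eβ.hom =
      (Scheme.Modules.pullbackComp W.ι π).inv.app S.X₁ ≫
        (Scheme.Modules.pullback W.ι).map ((Scheme.Modules.pullback π).map S.f ≫ q))
    (Minv : PA.Modules) (hMinv : ClSub.IsInverseOf Minv O1A)
    (hqc : Coh.IsQCoh (CohB1.tensorMod Minv ((Scheme.Modules.pullback πA).obj S.X₃)))
    (AV : RelSpec.QCAlg PA) (jV : CohB1.tensorMod Minv ((Scheme.Modules.pullback πA).obj S.X₃) ⟶ AV.toModule)
    (hAV : RelSpec.IsSymAlg (CohB1.tensorMod Minv ((Scheme.Modules.pullback πA).obj S.X₃)) AV jV) :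
    ∃ e : (W : Scheme.{u}) ≅ AV.spec, e.hom ≫ AV.π = β := by
  classical
  haveI := hqc
  haveI := CAlgH3.LocFreeFactor.isQCoh_of_finLocFree hA
  haveI := CAlgH3.LocFreeFactor.isQCoh_of_finLocFree hE
  haveI := CAlgH3.LocFreeFactor.isQCoh_of_finLocFree hB
  let spl := ShortComplex.Splitting.ofExactOfRetraction S hS.exact σ hσ hS.epi_g
  have hO1 := KRRPBLib.isInvertible_of_rankOne hP.invertible
  have hO1A := KRRPBLib.isInvertible_of_rankOne hPA.invertible
  have hM : PicF.IsInvertible Minv := by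
    obtain ⟨e⟩ := hMinv
    exact PicLib.PicM.isInvertible_of_tensor hO1A (glocus_isInvertible_of_iso
      ((tensorComm O1A Minv).trans e).symm isInvertible_structureModule)
  have hdata : ∀ w : PA, ∃ (U : X.Opens) (_ : IsAffineOpen U) (m r : ℕ)
      (bA : Module.Basis (Fin (m + 1)) Γ(X, U) Γ(S.X₁, U)) (_ : Module.Basis (Fin r) Γ(X, U) Γ(S.X₃, U))
      (k : Fin (m + 1)), w ∈ D qA (bA k) := by
    intro w
    obtain ⟨U₁, n, eA, hx₁, heA⟩ := exists_isBasisOn hA (πA w)
    obtain ⟨U₃, r, eB, hx₃, heB⟩ := exists_isBasisOn hB (πA w)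
    obtain ⟨U, hU, hxU, hle⟩ := Opens.isBasis_iff_nbhd.mp X.isBasis_affineOpens
      (show πA w ∈ U₁ ⊓ U₃ from ⟨hx₁, hx₃⟩)
    obtain ⟨bA⟩ := exists_basis_of_isBasisOn heA (hle.trans inf_le_left)
    obtain ⟨bB⟩ := exists_basis_of_isBasisOn heB (hle.trans inf_le_right)
    obtain ⟨k, hk⟩ := exists_mem_D hPA bA (show w ∈ πA ⁻¹ᵁ U from hxU) hU
    obtain ⟨m, rfl⟩ : ∃ m, n = m + 1 := ⟨n - 1, by have := k.isLt; omega⟩
    exact ⟨U, hU, m, r, bA, bB, k, hk⟩
  choose U hU m r bA bB k hmem using hdata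
  have hDW : ∀ w, D q (S.f.app (U w) (bA w (k w))) ≤ W := fun w y hy => by
    by_contra hyW
    obtain ⟨x, rfl⟩ := (hW.le (show y ∈ (W : Set P)ᶜ from hyW))
    exact not_mem_D hc ec hcq hO1 (hU w) _ x hy
  have hcovD : ⨆ w, D qA (bA w (k w)) = ⊤ := top_le_iff.1 fun w _ => Opens.mem_iSup.2 ⟨w, hmem w⟩
  have haffD : ∀ w, IsAffineOpen (D qA (bA w (k w))) := fun w => isAffineOpen_D hPA (hU w) _ _
  haveI : IsAffineHom β := isAffineHom_of_forall_exists_isAffineOpen β fun w =>
    ⟨D qA (bA w (k w)), hmem w, haffD w,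
      isAffineOpen_preimage hP hPA hβ eβ hβq spl (hU w) (bA w) (bB w) (k w) (hDW w)⟩
  obtain ⟨κ₀⟩ := hMinv
  obtain ⟨κ, hκ⟩ := exists_kappa β κ₀ hM hO1A
  obtain ⟨u, hu⟩ := exists_u (q := q) hβ eβ spl.s
  let N := (RelSpec.QCAlg.directImage β).toModule
  let f : Bilin Minv ((Scheme.Modules.pullback πA).obj S.X₃) N :=
    { app := fun O a z => (show Γ(W.toScheme, β ⁻¹ᵁ O) from κ.app (β ⁻¹ᵁ O) (tmul (pullSec β a)
        (show Γ((Scheme.Modules.pullback β).obj O1A, β ⁻¹ᵁ O) from u.app O z)))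
      add_left := fun O a a' z => by
        show κ.app _ _ = κ.app _ _ + κ.app _ _
        rw [pullSec_add', tmul_add_left, map_add]
      add_right := fun O a z z' => by
        show κ.app _ _ = κ.app _ _ + κ.app _ _
        rw [map_add, ← map_add (κ.app (β ⁻¹ᵁ O)).hom]
        exact congrArg _ (tmul_add_right _ _ _)
      smul_left := fun O x a z => by
        show @Eq Γ(W.toScheme, β ⁻¹ᵁ O) (κ.app _ _) ((β.app O).hom x *
          (show Γ(W.toScheme, β ⁻¹ᵁ O) from κ.app (β ⁻¹ᵁ O) (tmul (pullSec β a)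
            (show Γ((Scheme.Modules.pullback β).obj O1A, β ⁻¹ᵁ O) from u.app O z))))
        rw [pullSec_smul, tmul_smul_left, Scheme.Modules.Hom.app_smul]
        rfl
      smul_right := fun O x a z => by
        show @Eq Γ(W.toScheme, β ⁻¹ᵁ O) (κ.app _ _) ((β.app O).hom x *
          (show Γ(W.toScheme, β ⁻¹ᵁ O) from κ.app (β ⁻¹ᵁ O) (tmul (pullSec β a)
            (show Γ((Scheme.Modules.pullback β).obj O1A, β ⁻¹ᵁ O) from u.app O z))))
        rw [Scheme.Modules.Hom.app_smul]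
        refine (congrArg (κ.app (β ⁻¹ᵁ O)) (tmul_smul_right ((β.app O).hom x) _ _)).trans ?_
        rw [Scheme.Modules.Hom.app_smul]
        rfl
      res := fun O O' h a z => by
        show resM (Coh.structureModule W.toScheme) (β.preimage_mono h) (κ.app _ _) = κ.app _ _
        rw [← app_resM, resM_tmul, resM_pullSec β h]
        refine congrArg (κ.app _) (congrArg (tmul _) ?_)
        exact (app_resM u h z).symm }
  obtain ⟨ψ, hψ, -⟩ := hAV (RelSpec.QCAlg.directImage β) f.desc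
  have hbij : ∀ w, Function.Bijective (ψ.hom.app (op (D qA (bA w (k w))))).hom := fun w =>
    bijective_psi hP hPA hβ eβ hβq spl (hU w) (bA w) (bB w) (k w) (hDW w) hM κ₀ hκ hu
      (fun O a z => Bilin.desc_tmul f O a z) hAV hψ
  let Φ := H8Lim.toSpec (A := AV) β ψ.hom
  have hπ : Φ ≫ AV.π = β := H8Lim.toSpec_π β ψ.hom ψ.comm
  have hcov : ⨆ w, AV.π ⁻¹ᵁ D qA (bA w (k w)) = ⊤ := by
    rw [← Scheme.Hom.preimage_iSup, hcovD, Scheme.Hom.preimage_top]
  haveI : IsIso Φ := by
    refine IsZariskiLocalAtTarget.of_iSup_eq_top (P := MorphismProperty.isomorphisms Scheme)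
      (fun w => AV.π ⁻¹ᵁ D qA (bA w (k w))) hcov fun w => ?_
    let V : PA.affineOpens := ⟨D qA (bA w (k w)), haffD w⟩
    let O := AV.π ⁻¹ᵁ V.1
    have hpre : Φ ⁻¹ᵁ O = β ⁻¹ᵁ V.1 := by rw [← Scheme.Hom.comp_preimage, hπ]
    haveI : IsIso (H8Lim.algComp β ψ.hom V.1) := (ConcreteCategory.isIso_iff_bijective _).2 (hbij w)
    haveI : IsIso (AV.gammaAff V.1 V.2) := by
      haveI := RelSpecLib.isIso_gammaMap AV
      rw [← AV.gammaMap_app V.1 V.2]
      infer_instance
    haveI hΦ : IsIso (Φ.appLE O (β ⁻¹ᵁ V.1) hpre.ge) := by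
      rw [H8Lim.toSpec_appLE β ψ.hom V hpre.ge]
      infer_instance
    haveI : IsAffine O.toScheme := V.2.preimage AV.π
    haveI : IsAffine (Φ ⁻¹ᵁ O).toScheme := hpre ▸ V.2.preimage β
    haveI : IsIso (Φ.app O) := by
      haveI : IsIso (homOfLE hpre.ge : β ⁻¹ᵁ V.1 ⟶ Φ ⁻¹ᵁ O) := ⟨homOfLE hpre.le, rfl, rfl⟩
      rw [Scheme.Hom.appLE] at hΦ
      exact IsIso.of_isIso_comp_right (Φ.app O) ((W.toScheme).presheaf.map (homOfLE hpre.ge).op)
    haveI : IsIso (Φ ∣_ O).appTop := by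
      rw [morphismRestrict_appTop]
      have : ∀ O', O' = O → IsIso (Φ.app O') := fun O' hO => by subst hO; infer_instance
      haveI := this _ (Scheme.Opens.ι_image_top O)
      infer_instance
    exact Et18.isIso_of_isIso_appTop (Φ ∣_ O)
  exact ⟨asIso Φ, hπ⟩

end Groth.Agent.SubPBV24
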