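import Groth.Agent.AmpleLib.Twist2
import Groth.Agent.AmpleLib.Tensor
import Groth.Agent.AmpleLib.GenLocus
import Groth.Agent.H0Growth23.Ztwist
import Groth.Prelude.Def_RelSpec
import Groth.Prelude.Def_ClSub2

/-!
# Pairing an inverse module with the pullback of an invertible module
-/

set_option autoImplicit false
set_option linter.style.haveILetI false
set_option linter.unusedSectionVars false
set_option backward.isDefEq.respectTransparency.types false
set_option maxHeartbeats 1000000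

universe u

open CategoryTheory CategoryTheory.Limits AlgebraicGeometry Opposite TopologicalSpace
open Groth.Agent.Coherent Groth.Agent.PicLib Groth.Agent.AmpleLib

noncomputable section

namespace Groth.Agent.SubPBV24

variable {X : Scheme.{u}} {M L : X.Modules}

/-- The generator of the inverse dual to a given generator. -/
theorem exists_inverse_gen (κ₀ : CohB1.tensorMod M L ≅ Coh.structureModule X) (hM : PicF.IsInvertible M)
    {D : X.Opens} {g : Γ(L, D)} (hg : IsGen L D g) :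
    ∃ m : Γ(M, D), IsGen M D m ∧ κ₀.hom.app D (tmul m g) = oneSec D := by
  classical
  have hloc : ∀ y : D, ∃ (W : X.Opens) (hW : W ≤ D), y.1 ∈ W ∧ ∃ s : Γ(M, W), IsGen M W s ∧
      κ₀.hom.app W (tmul s (resM L hW g)) = oneSec W := fun y => by
    obtain ⟨W₁, hy, s₁, hs₁⟩ := exists_isGen hM y.1
    let W := W₁ ⊓ D
    have hs := hs₁.restrict (inf_le_left : W ≤ W₁)
    have ht := isGen_map_iso κ₀ (isGen_tmul hs (hg.restrict (inf_le_right : W ≤ D)))
    have hu := (isGen_oneSec W).isUnit_coef ht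
    obtain ⟨c, hc⟩ := hu
    have hc' := (isGen_oneSec W).coef_spec le_rfl
      (κ₀.hom.app W (tmul (resM M (inf_le_left : W ≤ W₁) s₁) (resM L (inf_le_right : W ≤ D) g)))
    rw [resM_self] at hc'
    refine ⟨W, inf_le_right, ⟨hy, y.2⟩, (↑c⁻¹ : Γ(X, W)) • resM M inf_le_left s₁, hs.smul_unit c⁻¹, ?_⟩
    rw [tmul_smul_left, Scheme.Modules.Hom.app_smul, ← hc', smul_smul, ← hc, Units.inv_mul, one_smul]
  choose W hW hyW s hs hval using hloc
  have hinj : ∀ (i j : D),
      resM M (inf_le_left : W i ⊓ W j ≤ W i) (s i) = resM M (inf_le_right : W i ⊓ W j ≤ W j) (s j) := by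
    intro i j
    have hgi := (hs i).restrict (inf_le_left : W i ⊓ W j ≤ W i)
    obtain ⟨r, hr⟩ := (hgi _ le_rfl).2 (resM M (inf_le_right : W i ⊓ W j ≤ W j) (s j))
    simp only [resM_self] at hr
    have h1 := congrArg (resM _ (inf_le_left : W i ⊓ W j ≤ W i)) (hval i)
    have h2 := congrArg (resM _ (inf_le_right : W i ⊓ W j ≤ W j)) (hval j)
    rw [← app_resM, resM_tmul, resM_resM, resM_oneSec] at h1 h2
    rw [← hr, tmul_smul_left, Scheme.Modules.Hom.app_smul, h1] at h2
    have hr1 : r = 1 := ((isGen_oneSec (W i ⊓ W j)) _ le_rfl).1 (show r • resM _ le_rfl (oneSec _) = (1 : Γ(X, _)) • resM _ le_rfl (oneSec _) by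
      rw [resM_self, one_smul]; exact h2)
    rw [hr1, one_smul] at hr
    exact hr
  have hcov : D ≤ ⨆ y : D, W y := fun y hy => Opens.mem_iSup.2 ⟨⟨y, hy⟩, hyW ⟨y, hy⟩⟩
  obtain ⟨m, hm, -⟩ := TopCat.Sheaf.existsUnique_gluing' (⟨M.presheaf, M.isSheaf⟩ : TopCat.Sheaf Ab X)
    W D (fun y => homOfLE (hW y)) hcov s hinj
  have hm' : ∀ y : D, resM M (hW y) (show Γ(M, D) from m) = s y := hm
  refine ⟨(show Γ(M, D) from m), isGen_of_cover W hW hcov fun y => by rw [hm' y]; exact hs y, ?_⟩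
  refine AmpleLib.sec_ext (U := D) _ _ _ fun z hz => ⟨W ⟨z, hz⟩, hW ⟨z, hz⟩, hyW ⟨z, hz⟩, ?_⟩
  rw [← app_resM, resM_tmul, hm', resM_oneSec]
  exact hval ⟨z, hz⟩

variable {Y : Scheme.{u}} (β : Y ⟶ X)

/-- The structure map of a morphism as a map of modules. -/
def strHom : Coh.structureModule X ⟶ (Scheme.Modules.pushforward β).obj (Coh.structureModule Y) :=
  ⟨PresheafOfModules.homMk
    { app := fun U => AddCommGrpCat.ofHom (β.app U.unop).hom.toAddMonoidHom
      naturality := fun U V i => AddCommGrpCat.hom_ext (AddMonoidHom.ext fun r =>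
        ConcreteCategory.congr_hom (β.naturality i) r) }
    (fun U r x => map_mul (β.app U.unop).hom r x)⟩

theorem pullSec_add' {U : X.Opens} (a b : Γ(L, U)) : pullSec β (a + b) = pullSec β a + pullSec β b :=
  map_add (((Scheme.Modules.pullbackPushforwardAdjunction β).unit.app L).app U).hom a b

/-- The pairing on the pullbacks. -/
theorem exists_kappa (κ₀ : CohB1.tensorMod M L ≅ Coh.structureModule X) (hM : PicF.IsInvertible M)
    (hL : PicF.IsInvertible L) :
    ∃ κ : CohB1.tensorMod ((Scheme.Modules.pullback β).obj M) ((Scheme.Modules.pullback β).obj L) ⟶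
        Coh.structureModule Y,
      ∀ (U : X.Opens) (a : Γ(M, U)) (b : Γ(L, U)),
        (κ.app (β ⁻¹ᵁ U) (tmul (pullSec β a) (pullSec β b)) : Γ(Y, β ⁻¹ᵁ U)) =
          (β.app U).hom (κ₀.hom.app U (tmul a b)) := by
  classical
  let Pl := Scheme.Modules.pullback β
  let adj := Scheme.Modules.pullbackPushforwardAdjunction β
  let N := CohB1.tensorMod (Pl.obj M) (Pl.obj L)
  let f : Bilin M L ((Scheme.Modules.pushforward β).obj N) :=
    { app := fun U a b => (show Γ(N, β ⁻¹ᵁ U) from tmul (pullSec β a) (pullSec β b))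
      add_left := fun U a a' b => by rw [pullSec_add', tmul_add_left]; rfl
      add_right := fun U a b b' => by rw [pullSec_add', tmul_add_right]; rfl
      smul_left := fun U r a b => by rw [pullSec_smul, tmul_smul_left]; rfl
      smul_right := fun U r a b => by rw [pullSec_smul, tmul_smul_right]; rfl
      res := fun U V h a b => by
        show resM N (β.preimage_mono h) (tmul (pullSec β a) (pullSec β b)) = tmul (pullSec β (resM M h a)) (pullSec β (resM L h b))
        rw [resM_tmul, resM_pullSec β h, resM_pullSec β h] }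
  let Φ : Pl.obj (CohB1.tensorMod M L) ⟶ N := (adj.homEquiv _ _).symm f.desc
  have hΦ : ∀ (U : X.Opens) (a : Γ(M, U)) (b : Γ(L, U)),
      Φ.app (β ⁻¹ᵁ U) (pullSec β (tmul a b)) = tmul (pullSec β a) (pullSec β b) := fun U a b =>
    (homEquiv_symm_app_pullSec β f.desc _).trans (Bilin.desc_tmul f U a b)
  have key : ∀ x : X, ∃ W : X.Opens, x ∈ W ∧ (∃ g : Γ(M, W), IsGen M W g) ∧ ∃ h : Γ(L, W), IsGen L W h := fun x => by
    obtain ⟨W₁, hx₁, g₁, hg₁⟩ := exists_isGen hM x
    obtain ⟨W₂, hx₂, g₂, hg₂⟩ := exists_isGen hL x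
    exact ⟨W₁ ⊓ W₂, ⟨hx₁, hx₂⟩, ⟨_, hg₁.restrict inf_le_left⟩, ⟨_, hg₂.restrict inf_le_right⟩⟩
  choose W hmem g' h' using key
  choose g hg using g'
  choose h hh using h'
  have hcov : (⨆ x : ULift.{u} X, β ⁻¹ᵁ W x.down) = ⊤ :=
    top_le_iff.1 fun z _ => Opens.mem_iSup.2 ⟨⟨β z⟩, hmem (β z)⟩
  haveI : IsIso Φ := isIso_of_gens Φ _ hcov (fun x => pullSec β (tmul (g x.down) (h x.down)))
    (fun x => isGen_pullSec β (isGen_tmul (hg _) (hh _)) (isInvertible_tensorMod hM hL))
    (fun x => by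
      rw [hΦ]
      exact isGen_tmul (isGen_pullSec β (hg _) hM) (isGen_pullSec β (hh _) hL))
  refine ⟨inv Φ ≫ Pl.map κ₀.hom ≫ (adj.homEquiv _ _).symm (strHom β), fun U a b => ?_⟩
  rw [← hΦ U a b]
  have h1 : (inv Φ).app (β ⁻¹ᵁ U) (Φ.app (β ⁻¹ᵁ U) (pullSec β (tmul a b))) = pullSec β (tmul a b) :=
    congr($(IsIso.hom_inv_id Φ).app (β ⁻¹ᵁ U) (pullSec β (tmul a b)))
  show ((adj.homEquiv _ _).symm (strHom β)).app _ ((Pl.map κ₀.hom).app _ ((inv Φ).app _ _)) = _
  rw [h1, pullback_map_app_pullSec, homEquiv_symm_app_pullSec]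
  rfl

end Groth.Agent.SubPBV24
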