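import Groth.Agent.SubPBV24.Basic
import Groth.Agent.SubPB24.Basic
import Groth.Agent.RelVALib.UPProp
import Groth.Agent.KRRPBLib.Chart
import Groth.Agent.H8Lim.ModSections
import Groth.Agent.ExtFilt28.Maps
import Groth.Agent.SymAlgLib.Consequences

/-!
# The projection away from a sub-bundle on a chart
-/

set_option autoImplicit false
set_option linter.style.haveILetI false
set_option linter.unusedSectionVars false
set_option backward.isDefEq.respectTransparency false
set_option backward.isDefEq.respectTransparency.types false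
set_option maxHeartbeats 2000000

universe u

open CategoryTheory CategoryTheory.Limits AlgebraicGeometry Opposite TopologicalSpace
open Groth.Agent.Coherent Groth.Agent.PicLib Groth.Agent.AmpleLib Groth.Agent.KRRPBLib

noncomputable section

namespace Groth.Agent.SubPBV24

section CoordHom

variable {X P : Scheme.{u}} {E : X.Modules} [Coh.IsQCoh E] {π : P ⟶ X} {O1 : P.Modules}
  {q : (Scheme.Modules.pullback π).obj E ⟶ O1} (hP : KRR.IsProjBundle π E O1 q)
  {U : X.Opens} (hU : IsAffineOpen U) {m : ℕ} (b : Module.Basis (Fin (m + 1)) Γ(X, U) Γ(E, U)) (k : Fin (m + 1))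

include hP hU in
theorem bijective_coordHom : Function.Bijective (coordHom (q := q) b k) := by
  haveI := isIso_toAffineSpace hP hU b k
  haveI : IsIso (toAffineSpace (q := q) b k).appTop :=
    inferInstanceAs (IsIso ((toAffineSpace (q := q) b k).app ⊤))
  have h : CommRingCat.ofHom (coordHom (q := q) b k) =
      ((Scheme.ΓSpecIso (CommRingCat.of (MvPolynomial (Fin m) Γ(X, U)))).inv ≫
        (toAffineSpace (q := q) b k).appTop) ≫ (D q (b k)).topIso.hom := by
    rw [appTop_toAffineSpace, Category.assoc, Iso.inv_hom_id, Category.comp_id]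
  haveI : IsIso (CommRingCat.ofHom (coordHom (q := q) b k)) := by rw [h]; infer_instance
  exact (ConcreteCategory.isIso_iff_bijective (CommRingCat.ofHom (coordHom (q := q) b k))).1 inferInstance

include hP hU in
theorem isAffineOpen_D : IsAffineOpen (D q (b k)) := by
  haveI := isIso_toAffineSpace hP hU b k
  exact IsAffine.of_isIso (toAffineSpace (q := q) b k)

end CoordHom

variable {X P PA : Scheme.{u}} {S : ShortComplex X.Modules}
  {π : P ⟶ X} {O1 : P.Modules} {q : (Scheme.Modules.pullback π).obj S.X₂ ⟶ O1}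
  (hP : KRR.IsProjBundle π S.X₂ O1 q)
  {πA : PA ⟶ X} {O1A : PA.Modules} {qA : (Scheme.Modules.pullback πA).obj S.X₁ ⟶ O1A}
  (hPA : KRR.IsProjBundle πA S.X₁ O1A qA)
  {W : P.Opens} {β : (W : Scheme.{u}) ⟶ PA} (hβ : β ≫ πA = W.ι ≫ π)
  (eβ : (Scheme.Modules.pullback β).obj O1A ≅ (Scheme.Modules.pullback W.ι).obj O1)
  (hβq : (Scheme.Modules.pullbackCongr hβ).inv.app S.X₁ ≫ (Scheme.Modules.pullbackComp β πA).inv.app S.X₁ ≫
      (Scheme.Modules.pullback β).map qA ≫ eβ.hom =
      (Scheme.Modules.pullbackComp W.ι π).inv.app S.X₁ ≫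
        (Scheme.Modules.pullback W.ι).map ((Scheme.Modules.pullback π).map S.f ≫ q))

include hβq in
theorem sec_beta {U : X.Opens} (hU : IsAffineOpen U) (a : Γ(S.X₁, U)) :
    eβ.hom.app (β ⁻¹ᵁ (πA ⁻¹ᵁ U)) (pullSec β (sec qA a)) =
      resM _ (RelVALib.le_of_over hβ U) (pullSec W.ι (sec q (S.f.app U a))) := by
  let φ := (Scheme.Modules.pullback π).map S.f ≫ q
  let L := (Scheme.Modules.pullback W.ι).obj O1
  let s0 := (Scheme.Modules.pullbackComp W.ι π).inv.app S.X₁ ≫ (Scheme.Modules.pullback W.ι).map φ ≫ 𝟙 L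
  let t := (Scheme.Modules.pullbackPushforwardAdjunction (W.ι ≫ π)).homEquiv S.X₁ L s0
  have hcl : RelVALib.Classifies (KRRPBLib.adjunct qA) (W.ι ≫ π) t β hβ eβ := by
    refine (RelVALib.classifies_iff (φ := KRRPBLib.adjunct qA) hβ eβ s0).1 ?_
    rw [KRRPBLib.adjunct, Equiv.symm_apply_apply]
    simp only [s0, Category.comp_id]
    exact hβq
  refine (hcl U hU a).trans (congrArg (resM L _) ?_)
  rw [show t.app U a = _ from KRRPBLib.app_adjunct_pullback (q := φ) W.ι (𝟙 L) U a,
    show KRRPBLib.adjunct φ = S.f ≫ KRRPBLib.adjunct q from Adjunction.homEquiv_naturality_left _ _ _]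
  rfl

include hP hPA hβq in
/-- The preimage of a chart. -/
theorem preimage_D {U : X.Opens} (hU : IsAffineOpen U) (a : Γ(S.X₁, U)) :
    W.ι ⁻¹ᵁ D q (S.f.app U a) = β ⁻¹ᵁ D qA a := by
  have hO1 := KRRPBLib.isInvertible_of_rankOne hP.invertible
  have hO1A := KRRPBLib.isInvertible_of_rankOne hPA.invertible
  apply le_antisymm
  · intro y hy
    have hgen := pullSec_gen q hO1 W.ι (S.f.app U a)
    have hle : W.ι ⁻¹ᵁ D q (S.f.app U a) ≤ β ⁻¹ᵁ (πA ⁻¹ᵁ U) :=
      (W.ι.preimage_mono (D_le q _)).trans (RelVALib.ge_of_over hβ U)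
    have h1 := isGen_map_iso eβ.symm hgen
    have h2 : eβ.inv.app _ (resM _ (W.ι.preimage_mono (D_le q (S.f.app U a))) (pullSec W.ι (sec q (S.f.app U a)))) =
        resM _ hle (pullSec β (sec qA a)) := by
      have h3 : resM ((Scheme.Modules.pullback W.ι).obj O1) (W.ι.preimage_mono (D_le q (S.f.app U a)))
          (pullSec W.ι (sec q (S.f.app U a))) = eβ.hom.app _ (resM _ hle (pullSec β (sec qA a))) := by
        rw [app_resM, sec_beta hβ eβ hβq hU a]
        exact (resM_resM _ _ _ _).symm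
      rw [h3]
      exact congr($(eβ.hom_inv_id).app _ (resM _ hle (pullSec β (sec qA a))))
    rw [Iso.symm_hom, h2] at h1
    obtain ⟨O, hO, hyO, hOgen⟩ := RelVALib.exists_isGen_of_pullSec β hO1A (sec qA a) hle h1 hy
    exact le_D qA hO hOgen hyO
  · intro y hy
    have hgen := isGen_map_iso eβ (pullSec_gen qA hO1A β a)
    rw [app_resM, sec_beta hβ eβ hβq hU a, resM_resM] at hgen
    obtain ⟨O, hO, hyO, hOgen⟩ := RelVALib.exists_isGen_of_pullSec W.ι hO1 (sec q (S.f.app U a)) _ hgen hy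
    exact le_D q hO hOgen hyO

variable {U : X.Opens} (hU : IsAffineOpen U)

theorem coord_congr {O : W.toScheme.Opens} {x x' y y' : Γ(S.X₂, U)} (hx : x = x') (hy : y = y')
    (h : O ≤ W.ι ⁻¹ᵁ D q x) (h' : O ≤ W.ι ⁻¹ᵁ D q x') :
    (W.ι.appLE (D q x) O h).hom (coord q x y) = (W.ι.appLE (D q x') O h').hom (coord q x' y') := by
  subst hx hy; rfl

/-- Pulled-back coordinates express pulled-back sections. -/
theorem coord_smul_pullSec {x y : Γ(S.X₂, U)} {O : W.toScheme.Opens} (h : O ≤ W.ι ⁻¹ᵁ D q x)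
    (h' : O ≤ W.ι ⁻¹ᵁ (π ⁻¹ᵁ U)) :
    (W.ι.appLE (D q x) O h).hom (coord q x y) • resM _ h' (pullSec W.ι (sec q x)) =
      resM _ h' (pullSec W.ι (sec q y)) := by
  have h1 := congrArg (fun z => resM _ h (pullSec W.ι z)) (coord_spec q x y)
  simp only [pullSec_smul, resM_smul, ← resM_pullSec W.ι (D_le q x), resM_resM] at h1
  exact h1

include hP hPA hβq hU in
/-- The coordinates of the smaller bundle. -/
theorem coord_beta (a a' : Γ(S.X₁, U)) :
    (β.app (D qA a)).hom (coord qA a a') =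
      (W.ι.appLE (D q (S.f.app U a)) (β ⁻¹ᵁ D qA a) (preimage_D hP hPA hβ eβ hβq hU a).ge).hom
        (coord q (S.f.app U a) (S.f.app U a')) := by
  have hO1A := KRRPBLib.isInvertible_of_rankOne hPA.invertible
  have hgen := isGen_map_iso eβ (pullSec_gen qA hO1A β a)
  rw [app_resM, sec_beta hβ eβ hβq hU a, resM_resM] at hgen
  have h1 := congrArg (fun z => eβ.hom.app (β ⁻¹ᵁ D qA a) (pullSec β z)) (coord_spec qA a a')
  simp only [pullSec_smul, Scheme.Modules.Hom.app_smul, ← resM_pullSec β (D_le qA a), app_resM,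
    sec_beta hβ eβ hβq hU, resM_resM] at h1
  have h2 := h1.trans (coord_smul_pullSec (q := q) (x := S.f.app U a) (y := S.f.app U a')
    (preimage_D hP hPA hβ eβ hβq hU a).ge ((β.preimage_mono (D_le qA a)).trans (RelVALib.le_of_over hβ U))).symm
  refine (hgen _ le_rfl).1 ?_
  show _ • resM _ le_rfl _ = _ • resM _ le_rfl _
  rw [resM_self]
  exact h2

include hP hPA hβq hU in
/-- The structure maps of the two charts. -/
theorem base_beta (a : Γ(S.X₁, U)) (r : Γ(X, U)) :
    (β.app (D qA a)).hom ((πA.appLE U (D qA a) (D_le qA a)).hom r) =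
      (W.ι.appLE (D q (S.f.app U a)) (β ⁻¹ᵁ D qA a) (preimage_D hP hPA hβ eβ hβq hU a).ge).hom
        ((π.appLE U (D q (S.f.app U a)) (D_le q _)).hom r) := by
  show (πA.appLE U (D qA a) (D_le qA a) ≫ β.app (D qA a)).hom r =
    (π.appLE U (D q (S.f.app U a)) (D_le q _) ≫ W.ι.appLE _ _ _).hom r
  rw [Scheme.Hom.app_eq_appLE, Scheme.Hom.appLE_comp_appLE, Scheme.Hom.appLE_comp_appLE]
  simp only [hβ]

/-- The images of the sections of the quotient in `O(1)` on the open. -/
theorem exists_u (s : S.X₃ ⟶ S.X₂) :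
    ∃ u : (Scheme.Modules.pullback πA).obj S.X₃ ⟶
        (Scheme.Modules.pushforward β).obj ((Scheme.Modules.pullback β).obj O1A),
      ∀ (U : X.Opens) (b : Γ(S.X₃, U)),
        (u.app (πA ⁻¹ᵁ U) (pullSec πA b) : Γ((Scheme.Modules.pullback β).obj O1A, β ⁻¹ᵁ (πA ⁻¹ᵁ U))) =
          eβ.inv.app _ (resM _ (RelVALib.le_of_over hβ U) (pullSec W.ι (sec q (s.app U b)))) := by
  let L := (Scheme.Modules.pullback W.ι).obj O1
  let tB : S.X₃ ⟶ (Scheme.Modules.pushforward πA).obj ((Scheme.Modules.pushforward β).obj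
      ((Scheme.Modules.pullback β).obj O1A)) :=
    s ≫ adjunct q ≫
      (Scheme.Modules.pushforward π).map ((Scheme.Modules.pullbackPushforwardAdjunction W.ι).unit.app O1) ≫
      (Scheme.Modules.pushforwardComp W.ι π).hom.app L ≫
      (Scheme.Modules.pushforwardCongr hβ.symm).hom.app L ≫
      (Scheme.Modules.pushforwardComp β πA).inv.app L ≫
      (Scheme.Modules.pushforward πA).map ((Scheme.Modules.pushforward β).map eβ.inv)
  exact ⟨((Scheme.Modules.pullbackPushforwardAdjunction πA).homEquiv _ _).symm tB,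
    fun U b => (homEquiv_symm_app_pullSec πA tB b).trans rfl⟩

include hP hPA hβq hU in
theorem u_smul {s : S.X₃ ⟶ S.X₂}
    {u : (Scheme.Modules.pullback πA).obj S.X₃ ⟶
        (Scheme.Modules.pushforward β).obj ((Scheme.Modules.pullback β).obj O1A)}
    (hu : ∀ (U : X.Opens) (b : Γ(S.X₃, U)),
        (u.app (πA ⁻¹ᵁ U) (pullSec πA b) : Γ((Scheme.Modules.pullback β).obj O1A, β ⁻¹ᵁ (πA ⁻¹ᵁ U))) =
          eβ.inv.app _ (resM _ (RelVALib.le_of_over hβ U) (pullSec W.ι (sec q (s.app U b)))))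
    (a : Γ(S.X₁, U)) (b : Γ(S.X₃, U)) :
    (u.app (D qA a) (resM _ (D_le qA a) (pullSec πA b)) : Γ((Scheme.Modules.pullback β).obj O1A, β ⁻¹ᵁ D qA a)) =
      (W.ι.appLE (D q (S.f.app U a)) (β ⁻¹ᵁ D qA a) (preimage_D hP hPA hβ eβ hβq hU a).ge).hom
        (coord q (S.f.app U a) (s.app U b)) • pullSec β (resM O1A (D_le qA a) (sec qA a)) := by
  rw [app_resM]
  have hle : β ⁻¹ᵁ D qA a ≤ W.ι ⁻¹ᵁ (π ⁻¹ᵁ U) :=
    (β.preimage_mono (D_le qA a)).trans (RelVALib.le_of_over hβ U)
  refine (congrArg (resM ((Scheme.Modules.pullback β).obj O1A) (β.preimage_mono (D_le qA a))) (hu U b)).trans ?_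
  rw [← app_resM, resM_resM]
  refine (congrArg (eβ.inv.app (β ⁻¹ᵁ D qA a)) (coord_smul_pullSec (q := q) (x := S.f.app U a) (y := s.app U b)
    (preimage_D hP hPA hβ eβ hβq hU a).ge hle).symm).trans ?_
  rw [Scheme.Modules.Hom.app_smul]
  refine congrArg (_ • ·) ?_
  rw [← resM_pullSec β (D_le qA a)]
  have h3 : resM ((Scheme.Modules.pullback W.ι).obj O1) hle (pullSec W.ι (sec q (S.f.app U a))) =
      eβ.hom.app _ (resM _ (β.preimage_mono (D_le qA a)) (pullSec β (sec qA a))) := by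
    rw [app_resM, sec_beta hβ eβ hβq hU a]
    exact (resM_resM _ _ _ _).symm
  rw [h3]
  exact congr($(eβ.hom_inv_id).app _ (resM _ (β.preimage_mono (D_le qA a)) (pullSec β (sec qA a))))

end Groth.Agent.SubPBV24
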