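import Groth.Agent.SubPBV24.Chart
import Groth.Agent.EGA43.InjFibre.Scheme
import Groth.Agent.AmpleLib.Ample
import Groth.Agent.CAlgH3.LocFreeFactor

/-!
# The projection away from a sub-bundle is a vector bundle, on a chart
-/

set_option autoImplicit false
set_option linter.style.haveILetI false
set_option linter.unusedSectionVars false
set_option backward.isDefEq.respectTransparency false
set_option backward.isDefEq.respectTransparency.types false
set_option maxHeartbeats 2000000

universe u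

open CategoryTheory CategoryTheory.Limits AlgebraicGeometry Opposite TopologicalSpace
open Groth.Agent.Coherent Groth.Agent.PicLib Groth.Agent.AmpleLib Groth.Agent.KRRPBLib

noncomputable section

namespace Groth.Agent.SubPBV24

/-- The index of the adapted basis. -/
def idx {m r : ℕ} (k : Fin (m + 1)) : Fin (m + 1) ⊕ Fin r ≃ Fin (m + r + 1) :=
  (Equiv.sumCongr (finSuccEquiv' k) (Equiv.refl _)).trans
    (({ toFun := Sum.elim (fun o => o.map Sum.inl) (fun l => some (Sum.inr l))
        invFun := fun o => o.elim (Sum.inl none) (Sum.map some id)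
        left_inv := by rintro ((_ | a) | l) <;> rfl
        right_inv := by rintro (_ | a | l) <;> rfl } : Option (Fin m) ⊕ Fin r ≃ Option (Fin m ⊕ Fin r)).trans
      ((Equiv.optionCongr finSumFinEquiv).trans (finSuccEquiv (m + r)).symm))

theorem idx_self {m r : ℕ} (k : Fin (m + 1)) : idx (r := r) k (Sum.inl k) = 0 := by
  simp [idx]

theorem idx_inl {m r : ℕ} (k : Fin (m + 1)) (j : Fin m) :
    idx (r := r) k (Sum.inl (k.succAbove j)) = (finSumFinEquiv (Sum.inl j : Fin m ⊕ Fin r)).succ := by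
  simp [idx]

theorem idx_inr {m r : ℕ} (k : Fin (m + 1)) (l : Fin r) :
    idx k (Sum.inr l) = (finSumFinEquiv (Sum.inr l : Fin m ⊕ Fin r)).succ := by
  simp [idx]

variable {X P PA : Scheme.{u}} {S : ShortComplex X.Modules}
  {π : P ⟶ X} {O1 : P.Modules} {q : (Scheme.Modules.pullback π).obj S.X₂ ⟶ O1}
  (hP : KRR.IsProjBundle π S.X₂ O1 q)
  {πA : PA ⟶ X} {O1A : PA.Modules} {qA : (Scheme.Modules.pullback πA).obj S.X₁ ⟶ O1A}
  (hPA : KRR.IsProjBundle πA S.X₁ O1A qA)
  {W : P.Opens} {β : (W : Scheme.{u}) ⟶ PA} (hβ : β ≫ πA = W.ι ≫ π)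
  (eβ : (Scheme.Modules.pullback β).obj O1A ≅ (Scheme.Modules.pullback W.ι).obj O1)
  (hβq : (Scheme.Modules.pullbackCongr hβ).inv.app S.X₁ ≫ (Scheme.Modules.pullbackComp β πA).inv.app S.X₁ ≫
      (Scheme.Modules.pullback β).map qA ≫ eβ.hom =
      (Scheme.Modules.pullbackComp W.ι π).inv.app S.X₁ ≫
        (Scheme.Modules.pullback W.ι).map ((Scheme.Modules.pullback π).map S.f ≫ q))
  (spl : S.Splitting)

/-- A split sequence on sections. -/
def splitEquiv (U : X.Opens) : (Γ(S.X₁, U) × Γ(S.X₃, U)) ≃ₗ[Γ(X, U)] Γ(S.X₂, U) where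
  toFun p := S.f.app U p.1 + spl.s.app U p.2
  map_add' p p' := by
    simp only [Prod.fst_add, Prod.snd_add, map_add]
    abel
  map_smul' r p := by
    simp only [Prod.smul_fst, Prod.smul_snd, Scheme.Modules.Hom.app_smul, smul_add, RingHom.id_apply]
  invFun e := (spl.r.app U e, S.g.app U e)
  left_inv p := by
    have h1 : spl.r.app U (S.f.app U p.1) = p.1 := congr($(spl.f_r).app U p.1)
    have h2 : spl.r.app U (spl.s.app U p.2) = 0 := congr($(spl.s_r).app U p.2)
    have h3 : S.g.app U (S.f.app U p.1) = 0 := congr($(S.zero).app U p.1)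
    have h4 : S.g.app U (spl.s.app U p.2) = p.2 := congr($(spl.s_g).app U p.2)
    show (spl.r.app U _, S.g.app U _) = p
    rw [map_add, map_add, h1, h2, h3, h4, add_zero, zero_add]
  right_inv e := congr($(spl.id).app U e)

variable {U : X.Opens} (hU : IsAffineOpen U) {m r : ℕ} (bA : Module.Basis (Fin (m + 1)) Γ(X, U) Γ(S.X₁, U))
  (bB : Module.Basis (Fin r) Γ(X, U) Γ(S.X₃, U)) (k : Fin (m + 1))

/-- The adapted basis of the middle term. -/
def bE : Module.Basis (Fin (m + r + 1)) Γ(X, U) Γ(S.X₂, U) :=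
  ((bA.prod bB).map (splitEquiv spl U)).reindex (idx k)

theorem bE_zero : bE spl bA bB k 0 = S.f.app U (bA k) := by
  rw [bE, Module.Basis.reindex_apply, show (idx k).symm 0 = Sum.inl k from
    (idx k).symm_apply_eq.2 (idx_self k).symm, Module.Basis.map_apply, Module.Basis.prod_apply]
  show S.f.app U (bA k) + spl.s.app U 0 = _
  rw [map_zero, add_zero]

theorem bE_inl (j : Fin m) :
    bE spl bA bB k ((finSumFinEquiv (Sum.inl j : Fin m ⊕ Fin r)).succ) = S.f.app U (bA (k.succAbove j)) := by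
  rw [bE, Module.Basis.reindex_apply, show (idx k).symm _ = Sum.inl (k.succAbove j) from
    (idx k).symm_apply_eq.2 (idx_inl k j).symm, Module.Basis.map_apply, Module.Basis.prod_apply]
  show S.f.app U (bA (k.succAbove j)) + spl.s.app U 0 = _
  rw [map_zero, add_zero]

theorem bE_inr (l : Fin r) :
    bE spl bA bB k ((finSumFinEquiv (Sum.inr l : Fin m ⊕ Fin r)).succ) = spl.s.app U (bB l) := by
  rw [bE, Module.Basis.reindex_apply, show (idx k).symm _ = Sum.inr l from
    (idx k).symm_apply_eq.2 (idx_inr k l).symm, Module.Basis.map_apply, Module.Basis.prod_apply]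
  show S.f.app U 0 + spl.s.app U (bB l) = _
  rw [map_zero, zero_add]

variable [Coh.IsQCoh S.X₁] [Coh.IsQCoh S.X₂] [Coh.IsQCoh S.X₃]

include hP hPA hβq hU spl bB in
theorem isAffineOpen_preimage (hDW : D q (S.f.app U (bA k)) ≤ W) : IsAffineOpen (β ⁻¹ᵁ D qA (bA k)) := by
  rw [← preimage_D hP hPA hβ eβ hβq hU]
  refine IsAffineOpen.preimage_of_isOpenImmersion ?_ W.ι (by rw [Scheme.Opens.opensRange_ι]; exact hDW)
  rw [← bE_zero spl bA bB k]
  exact isAffineOpen_D hP hU _ 0

include hP hPA hβq hU spl bB in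
/-- On a chart the algebra map is bijective. -/
theorem bijective_psi [QuasiCompact β] [QuasiSeparated β] (hDW : D q (S.f.app U (bA k)) ≤ W)
    {M : PA.Modules} (hM : PicF.IsInvertible M) (κ₀ : CohB1.tensorMod M O1A ≅ Coh.structureModule PA)
    {κ : CohB1.tensorMod ((Scheme.Modules.pullback β).obj M) ((Scheme.Modules.pullback β).obj O1A) ⟶
        Coh.structureModule W.toScheme}
    (hκ : ∀ (O : PA.Opens) (a : Γ(M, O)) (b : Γ(O1A, O)),
        (κ.app (β ⁻¹ᵁ O) (tmul (pullSec β a) (pullSec β b)) : Γ(W.toScheme, β ⁻¹ᵁ O)) =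
          (β.app O).hom (κ₀.hom.app O (tmul a b)))
    {u : (Scheme.Modules.pullback πA).obj S.X₃ ⟶
        (Scheme.Modules.pushforward β).obj ((Scheme.Modules.pullback β).obj O1A)}
    (hu : ∀ (U : X.Opens) (b : Γ(S.X₃, U)),
        (u.app (πA ⁻¹ᵁ U) (pullSec πA b) : Γ((Scheme.Modules.pullback β).obj O1A, β ⁻¹ᵁ (πA ⁻¹ᵁ U))) =
          eβ.inv.app _ (resM _ (RelVALib.le_of_over hβ U) (pullSec W.ι (sec q (spl.s.app U b)))))
    {φ : CohB1.tensorMod M ((Scheme.Modules.pullback πA).obj S.X₃) ⟶ (RelSpec.QCAlg.directImage β).toModule}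
    (hφ : ∀ (O : PA.Opens) (a : Γ(M, O)) (z : Γ((Scheme.Modules.pullback πA).obj S.X₃, O)),
        (φ.app O (tmul a z) : Γ(W.toScheme, β ⁻¹ᵁ O)) =
          κ.app (β ⁻¹ᵁ O) (tmul (pullSec β a)
            (show Γ((Scheme.Modules.pullback β).obj O1A, β ⁻¹ᵁ O) from u.app O z)))
    [Coh.IsQCoh (CohB1.tensorMod M ((Scheme.Modules.pullback πA).obj S.X₃))]
    {A : RelSpec.QCAlg PA} {jA : CohB1.tensorMod M ((Scheme.Modules.pullback πA).obj S.X₃) ⟶ A.toModule}
    (hA : RelSpec.IsSymAlg (CohB1.tensorMod M ((Scheme.Modules.pullback πA).obj S.X₃)) A jA)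
    {ψ : A ⟶ RelSpec.QCAlg.directImage β} (hψ : jA ≫ RelSpec.QCAlg.Hom.toModuleMap ψ = φ) :
    Function.Bijective (ψ.hom.app (op (D qA (bA k)))).hom := by
  classical
  haveI := AmpleLib.isQCoh_of_isInvertible hM
  haveI := EGA43.InjFibre.isQCoh_pullback πA S.X₃
  let V := D qA (bA k)
  let O := β ⁻¹ᵁ V
  have hV : IsAffineOpen V := isAffineOpen_D hPA hU bA k
  let Q := (Scheme.Modules.pullback πA).obj S.X₃
  let g := resM O1A (D_le qA (bA k)) (sec qA (bA k))
  obtain ⟨mk, hmk, hval⟩ := exists_inverse_gen κ₀ hM (isGen_D qA (bA k))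
  let cl : Fin r → Γ(CohB1.tensorMod M Q, V) := fun l =>
    tmul mk (resM Q (D_le qA (bA k)) (pullSec πA (bB l)))
  let str : Γ(PA, V) →+* A.presheaf.obj (op V) := (A.str.app (op V)).hom
  let p : MvPolynomial (Fin r) Γ(PA, V) →+* A.presheaf.obj (op V) :=
    MvPolynomial.eval₂Hom str (fun l => (jA.app V (cl l) : A.presheaf.obj (op V)))
  have hspan : ∀ z : Γ(CohB1.tensorMod M Q, V), z ∈ Submodule.span Γ(PA, V) (Set.range cl) := by
    intro z
    obtain ⟨y, rfl⟩ := (ExtFilt28.tmulEquiv M Q ⟨V, hV⟩).surjective z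
    induction y using TensorProduct.induction_on with
    | zero => rw [map_zero]; exact Submodule.zero_mem _
    | add a b ha hb => rw [map_add]; exact Submodule.add_mem _ ha hb
    | tmul a b =>
      show tmul (show Γ(M, V) from a) (show Γ(Q, V) from b) ∈ _
      obtain ⟨c, hc⟩ := (hmk V le_rfl).2 (show Γ(M, V) from a)
      beta_reduce at hc
      rw [resM_self] at hc
      rw [← hc, tmul_smul_left]
      refine Submodule.smul_mem _ _ ?_
      have hb : (show Γ(Q, V) from b) ∈ Submodule.span Γ(PA, V)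
          ((fun w => resM Q (D_le qA (bA k)) (pullSec πA w)) '' Set.range bB) :=
        H8Lim.span_pullSec_eq_top πA hU hV (D_le qA (bA k)) S.X₃ _ bB.span_eq ▸ trivial
      revert hb
      generalize (show Γ(Q, V) from b) = w0
      intro hb
      induction hb using Submodule.span_induction with
      | mem w hw => obtain ⟨_, ⟨l, rfl⟩, rfl⟩ := hw; exact Submodule.subset_span ⟨l, rfl⟩
      | zero =>
        rw [show tmul mk (0 : Γ(Q, V)) = 0 from by
          have h := tmul_add_right mk (0 : Γ(Q, V)) 0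
          rwa [add_zero, left_eq_add] at h]
        exact Submodule.zero_mem _
      | add w w' _ _ hw hw' => rw [tmul_add_right]; exact Submodule.add_mem _ hw hw'
      | smul d w _ hw => rw [tmul_smul_right]; exact Submodule.smul_mem _ _ hw
  have hp : Function.Surjective p := fun y => by
    have hy := (SymAlgLib.closure_eq_top hA hV).ge (Subring.mem_top y)
    refine (Subring.closure_le (t := p.range)).2 ?_ hy
    rintro _ (⟨c, rfl⟩ | ⟨x, rfl⟩)
    · exact ⟨MvPolynomial.C c, MvPolynomial.eval₂Hom_C _ _ c⟩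
    · have hx := hspan x
      show (jA.app V x : A.presheaf.obj (op V)) ∈ p.range
      induction hx using Submodule.span_induction with
      | mem w hw => obtain ⟨l, rfl⟩ := hw; exact ⟨MvPolynomial.X l, MvPolynomial.eval₂Hom_X' _ _ l⟩
      | zero => exact ⟨0, (map_zero p).trans (map_zero (jA.app V).hom).symm⟩
      | add w w' _ _ hw hw' =>
        obtain ⟨v, hv⟩ := hw; obtain ⟨v', hv'⟩ := hw'
        refine ⟨v + v', (map_add p v v').trans ?_⟩
        rw [hv, hv', map_add]
      | smul d w _ hw =>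
        obtain ⟨v, hv⟩ := hw
        refine ⟨MvPolynomial.C d * v, ?_⟩
        rw [map_mul, hv, Scheme.Modules.Hom.app_smul]
        exact congrArg (fun t : A.presheaf.obj (op V) => t * (show A.presheaf.obj (op V) from jA.app V w))
          (MvPolynomial.eval₂Hom_C _ _ d)
  let μ : MvPolynomial (Fin r) Γ(PA, V) →+* Γ(W.toScheme, O) := (ψ.hom.app (op V)).hom.comp p
  suffices hμ : Function.Bijective μ by
    refine ⟨fun x y hxy => ?_, fun y => ?_⟩
    · obtain ⟨x, rfl⟩ := hp x
      obtain ⟨y, rfl⟩ := hp y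
      exact congrArg p (hμ.1 hxy)
    · obtain ⟨x, hx⟩ := hμ.2 y
      exact ⟨p x, hx⟩
  have hμC : ∀ c, μ (MvPolynomial.C c) = (β.app V).hom c := fun c => by
    show (ψ.hom.app (op V)).hom (p (MvPolynomial.C c)) = _
    rw [show p (MvPolynomial.C c) = str c from MvPolynomial.eval₂Hom_C _ _ c]
    exact ConcreteCategory.congr_hom (NatTrans.congr_app ψ.comm (op V)) c
  have hO : O ≤ W.ι ⁻¹ᵁ D q (S.f.app U (bA k)) := (preimage_D hP hPA hβ eβ hβq hU (bA k)).ge
  let ie : Γ(P, D q (S.f.app U (bA k))) →+* Γ(W.toScheme, O) := (W.ι.appLE _ O hO).hom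
  have hμX : ∀ l, μ (MvPolynomial.X l) = ie (coord q (S.f.app U (bA k)) (spl.s.app U (bB l))) := fun l => by
    show (ψ.hom.app (op V)).hom (p (MvPolynomial.X l)) = _
    rw [show p (MvPolynomial.X l) = jA.app V (cl l) from MvPolynomial.eval₂Hom_X' _ _ l]
    refine (congr(($hψ).app V (cl l))).trans ?_
    refine (hφ V mk _).trans ?_
    rw [u_smul hP hPA hβ eβ hβq hU hu (bA k) (bB l), tmul_smul_right, Scheme.Modules.Hom.app_smul]
    refine (congrArg (fun w : Γ(W.toScheme, O) => ie (coord q (S.f.app U (bA k)) (spl.s.app U (bB l))) * w)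
      ((hκ V mk g).trans ((congrArg (β.app V).hom hval).trans (map_one (β.app V).hom)))).trans ?_
    exact mul_one _
  let e := bE spl bA bB k
  have he0 : e 0 = S.f.app U (bA k) := bE_zero spl bA bB k
  have hO' : O ≤ W.ι ⁻¹ᵁ D q (e 0) := he0.symm ▸ hO
  let δ : MvPolynomial (Fin (m + r)) Γ(X, U) →+* Γ(W.toScheme, O) :=
    (W.ι.appLE (D q (e 0)) O hO').hom.comp (coordHom (q := q) e 0)
  have hδ : Function.Bijective δ := by
    show Function.Bijective ((⇑(W.ι.appLE (D q (e 0)) O hO').hom) ∘ (⇑(coordHom (q := q) e 0)))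
    refine Function.Bijective.comp ?_ (bijective_coordHom hP hU e 0)
    have hDW' : D q (e 0) ≤ W := he0.symm ▸ hDW
    haveI : IsIso (W.ι.app (D q (e 0))) := W.ι.isIso_app _ (by rw [Scheme.Opens.opensRange_ι]; exact hDW')
    have hge : W.ι ⁻¹ᵁ D q (e 0) ≤ O := by
      rw [he0, preimage_D hP hPA hβ eβ hβq hU (bA k)]
    haveI : IsIso (homOfLE hO' : O ⟶ W.ι ⁻¹ᵁ D q (e 0)) := ⟨homOfLE hge, rfl, rfl⟩
    haveI : IsIso (W.ι.appLE (D q (e 0)) O hO') := by
      rw [Scheme.Hom.appLE]; infer_instance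
    exact ConcreteCategory.bijective_of_isIso (W.ι.appLE (D q (e 0)) O hO')
  let ε : Fin r ⊕ Fin m ≃ Fin (m + r) := (Equiv.sumComm _ _).trans finSumFinEquiv
  let cA := coordHom (q := qA) bA k
  have hcomp : (μ.comp (MvPolynomial.map cA)).comp
        (MvPolynomial.sumAlgEquiv Γ(X, U) (Fin r) (Fin m)).toRingEquiv.toRingHom =
      δ.comp (MvPolynomial.rename ε).toRingHom := by
    refine MvPolynomial.ringHom_ext (fun c => ?_) fun i => ?_
    · show μ (MvPolynomial.map cA (MvPolynomial.sumAlgEquiv Γ(X, U) (Fin r) (Fin m) (MvPolynomial.C c))) =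
        δ (MvPolynomial.rename ε (MvPolynomial.C c))
      rw [show MvPolynomial.sumAlgEquiv Γ(X, U) (Fin r) (Fin m) (MvPolynomial.C c) =
          MvPolynomial.C (MvPolynomial.C c) from by simp,
        MvPolynomial.map_C, MvPolynomial.rename_C, hμC]
      show (β.app V).hom (cA (MvPolynomial.C c)) = (W.ι.appLE _ O hO').hom (coordHom (q := q) e 0 (MvPolynomial.C c))
      rw [show cA (MvPolynomial.C c) = (πA.appLE U V (D_le qA (bA k))).hom c from MvPolynomial.eval₂Hom_C _ _ c,
        show coordHom (q := q) e 0 (MvPolynomial.C c) = (π.appLE U (D q (e 0)) (D_le q _)).hom c from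
          MvPolynomial.eval₂Hom_C _ _ c, base_beta hP hPA hβ eβ hβq hU (bA k) c]
      have : ∀ (x x' : Γ(S.X₂, U)) (_ : x = x') (h : O ≤ W.ι ⁻¹ᵁ D q x) (h' : O ≤ W.ι ⁻¹ᵁ D q x'),
          (W.ι.appLE (D q x) O h).hom ((π.appLE U (D q x) (D_le q x)).hom c) =
            (W.ι.appLE (D q x') O h').hom ((π.appLE U (D q x') (D_le q x')).hom c) := by
        intro x x' hx h h'; subst hx; rfl
      exact this _ _ he0.symm _ _
    · obtain l | j := i
      · show μ (MvPolynomial.map cA (MvPolynomial.sumAlgEquiv Γ(X, U) (Fin r) (Fin m) (MvPolynomial.X (Sum.inl l)))) =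
          δ (MvPolynomial.rename ε (MvPolynomial.X (Sum.inl l)))
        rw [show MvPolynomial.sumAlgEquiv Γ(X, U) (Fin r) (Fin m) (MvPolynomial.X (Sum.inl l)) =
            MvPolynomial.X l from by simp, MvPolynomial.map_X, MvPolynomial.rename_X, hμX]
        show _ = (W.ι.appLE _ O hO').hom (coordHom (q := q) e 0 (MvPolynomial.X (ε (Sum.inl l))))
        rw [show coordHom (q := q) e 0 (MvPolynomial.X (ε (Sum.inl l))) =
          coord q (e 0) (e ((0 : Fin (m + r + 1)).succAbove (ε (Sum.inl l)))) from MvPolynomial.eval₂Hom_X' _ _ _]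
        refine coord_congr he0.symm ?_ hO hO'
        rw [Fin.succAbove_zero]
        exact (bE_inr spl bA bB k l).symm
      · show μ (MvPolynomial.map cA (MvPolynomial.sumAlgEquiv Γ(X, U) (Fin r) (Fin m) (MvPolynomial.X (Sum.inr j)))) =
          δ (MvPolynomial.rename ε (MvPolynomial.X (Sum.inr j)))
        rw [show MvPolynomial.sumAlgEquiv Γ(X, U) (Fin r) (Fin m) (MvPolynomial.X (Sum.inr j)) =
            MvPolynomial.C (MvPolynomial.X j) from by simp, MvPolynomial.map_C, MvPolynomial.rename_X, hμC]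
        show (β.app V).hom (cA (MvPolynomial.X j)) =
          (W.ι.appLE _ O hO').hom (coordHom (q := q) e 0 (MvPolynomial.X (ε (Sum.inr j))))
        rw [show cA (MvPolynomial.X j) = coord qA (bA k) (bA (k.succAbove j)) from MvPolynomial.eval₂Hom_X' _ _ j,
          show coordHom (q := q) e 0 (MvPolynomial.X (ε (Sum.inr j))) =
            coord q (e 0) (e ((0 : Fin (m + r + 1)).succAbove (ε (Sum.inr j)))) from MvPolynomial.eval₂Hom_X' _ _ _,
          coord_beta hP hPA hβ eβ hβq hU]
        refine coord_congr he0.symm ?_ hO hO'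
        rw [Fin.succAbove_zero]
        exact (bE_inl spl bA bB k j).symm
  have hb1 : Function.Bijective (δ.comp (MvPolynomial.rename ε).toRingHom) :=
    hδ.comp (MvPolynomial.renameEquiv Γ(X, U) ε).bijective
  rw [← hcomp, RingHom.coe_comp, RingHom.coe_comp] at hb1
  have hcA : Function.Bijective (MvPolynomial.map (σ := Fin r) cA) :=
    (MvPolynomial.mapEquiv (Fin r) (RingEquiv.ofBijective cA (bijective_coordHom hPA hU bA k))).bijective
  have h3 := (Function.Bijective.of_comp_iff _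
    (MvPolynomial.sumAlgEquiv Γ(X, U) (Fin r) (Fin m)).toRingEquiv.bijective).1 hb1
  exact (Function.Bijective.of_comp_iff _ hcA).1 h3

end Groth.Agent.SubPBV24
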